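import Mathlib
import Groth.Agent.H7Flat.Flatten.Nagata
import Groth.Agent.H26Blow.Exists
import Groth.Agent.H26Blow.Proper
import Groth.Agent.H29Blow.Basic
import Groth.Agent.H11Strict.ClosedImm
import Groth.Agent.H17.LocImmBlow.Core
import Groth.Agent.H06Noether.FieldDim

/-!
# Compactifications with affine inclusion over a field
-/

set_option autoImplicit false
set_option linter.style.haveILetI false
set_option maxHeartbeats 800000
set_option backward.isDefEq.respectTransparency false

universe u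

open CategoryTheory CategoryTheory.Limits AlgebraicGeometry Opposite TopologicalSpace

namespace Groth.Agent.H3Lich

/-- A separated scheme of finite type over a field is open and dense in a proper one, with affine inclusion. -/
theorem exists_affine_compactification {k : Type u} [Field k] {X : Scheme.{u}} (f : X ⟶ Spec (CommRingCat.of k))
    [IsSeparated f] [LocallyOfFiniteType f] [QuasiCompact f] :
    ∃ (Y : Scheme.{u}) (j : X ⟶ Y) (p : Y ⟶ Spec (CommRingCat.of k)),
      IsOpenImmersion j ∧ IsAffineHom j ∧ IsProper p ∧ j ≫ p = f ∧ Dense (Set.range j.base) := by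
  haveI : CompactSpace X := QuasiCompact.compactSpace_of_compactSpace f
  obtain ⟨Y₀, j₀, p₀, hj₀, -, hp₀, hjp⟩ := H7Flat.Flatten.exists_compactification f
  haveI := hj₀; haveI := hp₀
  haveI : IsLocallyNoetherian Y₀ := LocallyOfFiniteType.isLocallyNoetherian p₀
  let O := j₀.opensRange
  let I := Scheme.IdealSheafData.vanishingIdeal (⟨(O : Set Y₀)ᶜ, O.isOpen.isClosed_compl⟩ : Closeds Y₀)
  have hsupp : (I.support : Set Y₀) = (O : Set Y₀)ᶜ := by
    rw [Scheme.IdealSheafData.coe_support_vanishingIdeal]; rfl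
  obtain ⟨Y₁, b, hb⟩ := H26Blow.exists_isBlowUp I
  haveI : IsProper b := H26Blow.isProper_of_isBlowUp hb fun y => by
    obtain ⟨_, ⟨W, hW, rfl⟩, hy, -⟩ := Y₀.isBasis_affineOpens.exists_subset_of_mem_open
      (Set.mem_univ y) isOpen_univ
    exact ⟨⟨W, hW⟩, hy, H17.LocImmBlow.isFiniteTypeIdeal I _⟩
  haveI : IsIso (b ∣_ O) := H29Blow.isIso_morphismRestrict hb O fun y hy hys => by
    have : y ∈ (O : Set Y₀)ᶜ := hsupp ▸ (show y ∈ (I.support : Set Y₀) from hys)
    exact this hy
  let O₁ := b ⁻¹ᵁ O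
  let j₁ : X ⟶ Y₁ := j₀.isoOpensRange.hom ≫ inv (b ∣_ O) ≫ O₁.ι
  have hQ : O₁ = (I.comap b).support.compl := by
    refine Opens.ext ?_
    show (O₁ : Set Y₁) = ((I.comap b).support : Set Y₁)ᶜ
    rw [Scheme.IdealSheafData.support_comap]
    show _ = (b.base ⁻¹' (I.support : Set Y₀))ᶜ
    rw [hsupp, Set.preimage_compl, compl_compl]
    rfl
  haveI : IsAffineHom O₁.ι := by
    rw [hQ]; exact H11Strict.isAffineHom_compl hb.1
  haveI : IsAffineHom j₁ := inferInstance
  have hfac : j₁ ≫ b ≫ p₀ = f := by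
    simp only [j₁, Category.assoc]
    rw [show O₁.ι ≫ b ≫ p₀ = (b ∣_ O) ≫ O.ι ≫ p₀ from (morphismRestrict_ι_assoc b O p₀).symm,
      IsIso.inv_hom_id_assoc, ← Category.assoc]
    refine Eq.trans ?_ hjp
    exact congrArg (· ≫ p₀) (Scheme.Hom.isoOpensRange_hom_ι j₀)
  haveI : QuasiCompact (j₁.toImage ≫ j₁.imageι) := by rw [j₁.toImage_imageι]; infer_instance
  haveI : QuasiCompact j₁.toImage := QuasiCompact.of_comp j₁.toImage j₁.imageι
  haveI : IsAffineHom (j₁.toImage ≫ j₁.imageι) := by rw [j₁.toImage_imageι]; infer_instance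
  refine ⟨j₁.image, j₁.toImage, j₁.imageι ≫ b ≫ p₀, inferInstance,
    MorphismProperty.of_postcomp (W := @IsAffineHom) (W' := @IsSeparated) j₁.toImage j₁.imageι
      inferInstance inferInstance,
    inferInstance, by rw [Scheme.Hom.toImage_imageι_assoc, hfac], ?_⟩
  exact j₁.toImage.denseRange

/-- Its dimension. -/
theorem dim_eq_of_compactification {k : Type u} [Field k] {X Y : Scheme.{u}} (j : X ⟶ Y) [IsOpenImmersion j]
    (p : Y ⟶ Spec (CommRingCat.of k)) [IsProper p] (hd : Dense (Set.range j.base)) :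
    topologicalKrullDim Y = topologicalKrullDim X := by
  have h := H06Noether.dim_eq_of_dense p j.opensRange hd
  rw [← h]
  exact (IsHomeomorph.topologicalKrullDim_eq _ j.isoOpensRange.hom.homeomorph.isHomeomorph).symm

end Groth.Agent.H3Lich
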