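import Mathlib
import Groth.Agent.H3Lich.Compact
import Groth.Agent.S1752
import Groth.Agent.H7Flat.CohDim.H1
import Groth.Agent.H28Int.Vanishing
import Groth.Agent.H7Lim.ModExact
import Groth.Agent.H10Coh.FinType2
import Groth.Agent.H10Coh.Support
import Groth.Agent.H10Coh.DualEmbed
import Groth.Agent.H17.KoszTwist.Stalk
import Groth.Agent.H06Mod.StalkFinite
import Groth.Agent.H22Alg.RedIntegral
import Groth.Agent.H8Props.FieldDimScheme
import Groth.Agent.H10Coh.ExtPowFree

/-!
# Lichtenbaum vanishing: top cohomology of schemes without proper components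
-/

set_option autoImplicit false
set_option linter.style.haveILetI false
set_option maxHeartbeats 1000000
set_option backward.isDefEq.respectTransparency false

universe u

open CategoryTheory CategoryTheory.Limits AlgebraicGeometry Opposite TopologicalSpace

namespace Groth.Agent.H3Lich

variable {k : Type u} [Field k] {X Y : Scheme.{u}}

/-- A map from a module pushed forward from an affinely embedded open to a coherent module has vanishing
stalks outside the open. -/
theorem stalk_push_eq_zero [IsLocallyNoetherian Y] (j : X ⟶ Y) [IsOpenImmersion j] [IsAffineHom j]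
    (M : X.Modules) {ω : Y.Modules} (hω : Coh.IsCoh ω) (φ : (Scheme.Modules.pushforward j).obj M ⟶ ω) (y : Y)
    (hy : y ∉ Set.range j.base) (a : ((Scheme.Modules.pushforward j).obj M).presheaf.stalk y) :
    H06Mod.stalkLin φ y a = 0 := by
  let G := (Scheme.Modules.pushforward j).obj M
  obtain ⟨U, hyU, s, rfl⟩ := TopCat.Presheaf.exists_germ_eq G.presheaf a
  obtain ⟨_, ⟨W, hW, rfl⟩, hyW, hWU⟩ := Y.isBasis_affineOpens.exists_subset_of_mem_open hyU U.2
  rw [← TopCat.Presheaf.germ_res_apply G.presheaf (homOfLE hWU) y hyW s, H06Mod.stalkLin_germ]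
  suffices hsuff : ∀ m : Γ(G, W), ω.presheaf.germ W y hyW (φ.app W m) = 0 from hsuff _
  intro m
  let I := Scheme.IdealSheafData.vanishingIdeal
    (⟨(j.opensRange : Set Y)ᶜ, j.opensRange.isOpen.isClosed_compl⟩ : Closeds Y)
  have hsupp : (I.support : Set Y) = (j.opensRange : Set Y)ᶜ := by
    rw [Scheme.IdealSheafData.coe_support_vanishingIdeal]; rfl
  let J := I.ideal ⟨W, hW⟩
  have hW' : IsAffineOpen (j ⁻¹ᵁ W) := hW.preimage j
  have htop : J.map (j.app W).hom = ⊤ := by
    by_contra hne
    obtain ⟨q, hq, hJq⟩ := Ideal.exists_le_maximal _ hne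
    let z : X := hW'.fromSpec.base (⟨q, hq.isPrime⟩ : PrimeSpectrum Γ(X, j ⁻¹ᵁ W))
    have hz : z ∈ j ⁻¹ᵁ W := by
      have : z ∈ Set.range hW'.fromSpec.base := ⟨_, rfl⟩
      rwa [hW'.range_fromSpec] at this
    have hzI : j.base z ∉ (I.support : Set Y) := by
      rw [hsupp]; exact fun h => h ⟨z, rfl⟩
    rw [SetLike.mem_coe, Scheme.IdealSheafData.mem_support_iff_of_mem (U := ⟨W, hW⟩) hz,
      Scheme.mem_zeroLocus_iff] at hzI
    push Not at hzI
    obtain ⟨g, hg, hzg⟩ := hzI
    have hmem : (j.app W) g ∈ q := hJq (Ideal.mem_map_of_mem _ hg)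
    have hzb : z ∈ X.basicOpen (j.app W g) := by
      rw [← Scheme.preimage_basicOpen]; exact hzg
    have h' : (⟨q, hq.isPrime⟩ : PrimeSpectrum Γ(X, j ⁻¹ᵁ W)) ∈ hW'.fromSpec ⁻¹ᵁ X.basicOpen (j.app W g) := hzb
    rw [hW'.fromSpec_preimage_basicOpen] at h'
    exact h' hmem
  have key : ∀ m : Γ(G, W), m ∈ J • (⊤ : Submodule Γ(Y, W) Γ(G, W)) := by
    intro m
    have h1 : (1 : Γ(X, j ⁻¹ᵁ W)) ∈ J.map (j.app W).hom := htop ▸ Submodule.mem_top
    let Q : Submodule Γ(Y, W) Γ(G, W) := J • ⊤
    have hmul : ∀ c ∈ J.map (j.app W).hom, ∀ m : Γ(M, j ⁻¹ᵁ W), (c • m : Γ(M, j ⁻¹ᵁ W)) ∈ Q := by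
      intro c hc
      refine Submodule.span_induction (p := fun c _ => ∀ m : Γ(M, j ⁻¹ᵁ W), (c • m : Γ(M, j ⁻¹ᵁ W)) ∈ Q)
        ?_ ?_ ?_ ?_ hc
      · rintro _ ⟨g, hg, rfl⟩ m
        let m' : Γ(G, W) := m
        have : g • m' ∈ Q := Submodule.smul_mem_smul hg Submodule.mem_top
        exact this
      · intro m
        rw [zero_smul]
        exact Q.zero_mem
      · intro c d _ _ hc hd m
        rw [add_smul]
        exact Q.add_mem (hc m) (hd m)
      · intro r c _ hc m
        rw [smul_eq_mul, mul_comm, mul_smul]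
        exact hc _
    have := hmul 1 h1 m
    rwa [one_smul] at this
  have hpow : ∀ n : ℕ, ∀ m : Γ(G, W), m ∈ J ^ n • (⊤ : Submodule Γ(Y, W) Γ(G, W)) := by
    intro n
    induction n with
    | zero => intro m; rw [pow_zero, Ideal.one_eq_top, Submodule.top_smul]; exact Submodule.mem_top
    | succ n ih =>
      intro m
      have hle : (⊤ : Submodule Γ(Y, W) Γ(G, W)) ≤ J • ⊤ := fun x _ => key x
      rw [pow_succ, mul_smul]
      exact Submodule.smul_mono le_rfl hle (ih m)
  haveI : IsNoetherianRing Γ(Y, W) := IsLocallyNoetherian.component_noetherian ⟨W, hW⟩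
  let O := Y.presheaf.stalk y
  haveI : Module.Finite O (ω.presheaf.stalk y) := H06Mod.finite_stalk ω hω.2 y
  have hJm : J.map (Y.presheaf.germ W y hyW).hom ≤ IsLocalRing.maximalIdeal O := by
    rw [Ideal.map_le_iff_le_comap]
    intro g hg hu
    have hys : y ∈ (I.support : Set Y) := by rw [hsupp]; exact hy
    rw [SetLike.mem_coe, Scheme.IdealSheafData.mem_support_iff_of_mem (U := ⟨W, hW⟩) hyW,
      Scheme.mem_zeroLocus_iff] at hys
    exact hys g hg ((Y.mem_basicOpen g y hyW).2 hu)
  have hmem : ω.presheaf.germ W y hyW (φ.app W m) ∈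
      ⨅ n : ℕ, IsLocalRing.maximalIdeal O ^ n • (⊤ : Submodule O (ω.presheaf.stalk y)) := by
    rw [Submodule.mem_iInf]
    intro n
    refine Submodule.smul_induction_on (hpow n m) (fun r hr t _ => ?_) (fun a b ha hb => ?_)
    · rw [Scheme.Modules.Hom.app_smul, H06Mod.germ_smul]
      refine Submodule.smul_mem_smul ?_ Submodule.mem_top
      have : Y.presheaf.germ W y hyW r ∈ (J ^ n).map (Y.presheaf.germ W y hyW).hom := Ideal.mem_map_of_mem _ hr
      rw [Ideal.map_pow] at this
      exact Ideal.pow_right_mono hJm n this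
    · rw [map_add, map_add]
      exact Submodule.add_mem _ ha hb
  rw [Ideal.iInf_pow_smul_eq_bot_of_isLocalRing _ (IsLocalRing.maximalIdeal.isMaximal O).ne_top,
    Submodule.mem_bot] at hmem
  exact hmem

/-- A closed subset inside an open of dimension `d` with no proper `d`-dimensional closed subvariety has
dimension less than `d`. -/
theorem cdim_lt (f : X ⟶ Spec (CommRingCat.of k)) (p : Y ⟶ Spec (CommRingCat.of k)) [IsProper p]
    (j : X ⟶ Y) [IsOpenImmersion j] (hj : j ≫ p = f) (d : ℕ) (hd : topologicalKrullDim Y = d)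
    (hprop : ∀ (Z : Scheme.{u}) (i : Z ⟶ X) [IsClosedImmersion i] [IrreducibleSpace Z],
      topologicalKrullDim Z = d → ¬ IsProper (i ≫ f))
    {S : Set Y} (hS : IsClosed S) (hSj : S ⊆ Set.range j.base) (y : Y) (hy : y ∈ S) :
    topologicalKrullDim (closure ({y} : Set Y)) < (d : WithBot ℕ∞) := by
  refine lt_of_le_of_ne (hd ▸ Topology.IsInducing.subtypeVal.topologicalKrullDim_le) fun heq => ?_
  haveI : Y.IsSeparated := Scheme.IsSeparated.mk (by
    rw [Subsingleton.elim (terminal.from Y) (p ≫ terminal.from _)]; infer_instance)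
  let J := Scheme.IdealSheafData.vanishingIdeal (⟨closure {y}, isClosed_closure⟩ : Closeds Y)
  haveI : IsIntegral J.subscheme := H22Alg.isIntegral_vanishingIdeal_closure y
  have hr : Set.range J.subschemeι.base = closure {y} :=
    (Scheme.IdealSheafData.range_subschemeι J).trans (Scheme.IdealSheafData.coe_support_vanishingIdeal _)
  have hle : Set.range J.subschemeι.base ⊆ Set.range j.base :=
    hr ▸ (closure_minimal (Set.singleton_subset_iff.2 hy) hS).trans hSj
  let i := IsOpenImmersion.lift j J.subschemeι hle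
  have hi : i ≫ j = J.subschemeι := IsOpenImmersion.lift_fac _ _ _
  haveI : IsClosedImmersion (i ≫ j) := by rw [hi]; infer_instance
  haveI : IsClosedImmersion i := IsClosedImmersion.of_comp i j
  refine hprop J.subscheme i ?_ ?_
  · rw [← H8Props.FieldDim.dim_range J.subschemeι.isEmbedding, hr]
    exact heq
  · rw [show i ≫ f = J.subschemeι ≫ p by rw [← hj, ← Category.assoc, hi]]
    infer_instance

/-- Lichtenbaum vanishing. -/
theorem subsingleton_top (f : X ⟶ Spec (CommRingCat.of k)) [IsSeparated f] [LocallyOfFiniteType f] [QuasiCompact f]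
    (d : ℕ) (hd : topologicalKrullDim X = d)
    (hprop : ∀ (Z : Scheme.{u}) (i : Z ⟶ X) [IsClosedImmersion i] [IrreducibleSpace Z],
      topologicalKrullDim Z = d → ¬ IsProper (i ≫ f))
    (M : X.Modules) (hM : Coh.IsQCoh M) : Subsingleton (Coh.HH X M d) := by
  obtain ⟨Y, j, p, hjo, hja, hp, hjp, hdense⟩ := exists_affine_compactification f
  haveI := hjo; haveI := hja; haveI := hp
  letI : Y.Over (Spec (CommRingCat.of k)) := ⟨p⟩
  haveI : IsProper (Y ↘ Spec (CommRingCat.of k)) := inferInstanceAs (IsProper p)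
  haveI : M.IsQuasicoherent := hM
  haveI : IsLocallyNoetherian Y := LocallyOfFiniteType.isLocallyNoetherian p
  haveI : CompactSpace Y := QuasiCompact.compactSpace_of_compactSpace p
  haveI : IsNoetherian Y := {}
  haveI : Y.IsSeparated := Scheme.IsSeparated.mk (by
    rw [Subsingleton.elim (terminal.from Y) (p ≫ terminal.from _)]; infer_instance)
  have hdY : topologicalKrullDim Y = d := (dim_eq_of_compactification j p hdense).trans hd
  obtain ⟨ω, t, hω, hu⟩ := S1752.result k Y d hdY
  let G := (Scheme.Modules.pushforward j).obj M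
  haveI hG : G.IsQuasicoherent := H10Coh.isQuasicoherent_pushforward_of_isAffineHom j M
  have hzero : ∀ φ : G ⟶ ω, φ = 0 := by
    intro φ
    let Im := Limits.image φ
    have hImq : Coh.IsQCoh Im := H7Lim.ModExact.isQCoh_image φ hG hω.1
    have hImc : Coh.IsCoh Im := H10Coh.isCoh_of_mono (Limits.image.ι φ) hImq hω
    let S := CohB1.support Im
    have hSc : IsClosed S := H10Coh.isClosed_support Im hImc.2
    have hSj : S ⊆ Set.range j.base := by
      intro y hy
      by_contra hyj
      refine hy (subsingleton_of_forall_eq (0 : Im.presheaf.stalk y) fun b => ?_)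
      obtain ⟨a, rfl⟩ := H10Coh.DualEmbed.surjective_stalk_of_epi (factorThruImage φ) y b
      apply H17.KoszTwist.stalk_injective_of_mono (Limits.image.ι φ) y
      rw [map_zero]
      refine Eq.trans ?_ (stalk_push_eq_zero j M hω φ y hyj a)
      obtain ⟨U, hyU, s, rfl⟩ := TopCat.Presheaf.exists_germ_eq G.presheaf a
      rw [H06Mod.stalkLin_germ, H06Mod.stalkLin_germ, H06Mod.stalkLin_germ]
      conv_rhs => rw [← Limits.image.fac φ]
      rfl
    have hIm : Subsingleton (Coh.HH Y Im d) := by
      rcases Nat.eq_zero_or_pos d with rfl | hpos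
      · refine H10Coh.ExtPowFree.subsingleton_HH_of_isZero ?_ 0
        refine H16Derived.KFlat.Stalk.isZero_of_stalk fun y => ?_
        rw [← H25Euler.notMem_support_iff]
        intro hy
        have h := cdim_lt f p j hjp 0 hdY hprop hSc hSj y hy
        haveI : Nonempty (IrreducibleCloseds (closure ({y} : Set Y))) :=
          ⟨⟨closure {⟨y, subset_closure rfl⟩}, isIrreducible_singleton.closure, isClosed_closure⟩⟩
        exact absurd h (not_lt.2 Order.krullDim_nonneg)
      · obtain ⟨e, rfl⟩ : ∃ e, d = e + 1 := ⟨d - 1, by omega⟩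
        have hS : topologicalKrullDim S ≤ (e : WithBot ℕ∞) := by
          haveI : QuasiSober S := hSc.isClosedEmbedding_subtypeVal.quasiSober
          rw [H8Props.FieldDim.dim_eq_iSup_cdim]
          refine iSup_le fun x => ?_
          have h := cdim_lt f p j hjp (e + 1) hdY hprop hSc hSj x.1 x.2
          refine le_trans ?_ (?_ : topologicalKrullDim (closure ({x.1} : Set Y)) ≤ _)
          · let g : closure ({x} : Set S) → closure ({x.1} : Set Y) := fun z => ⟨z.1.1, by
              have := image_closure_subset_closure_image continuous_subtype_val (s := ({x} : Set S)) ⟨z.1, z.2, rfl⟩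
              simpa using this⟩
            have hg : Topology.IsInducing g :=
              Topology.IsInducing.of_comp (f := g)
                (g := (Subtype.val : ↥(closure ({x.1} : Set Y)) → Y))
                ((continuous_subtype_val.comp continuous_subtype_val).subtype_mk _) continuous_subtype_val
                ((Topology.IsInducing.subtypeVal (t := S)).comp
                  (Topology.IsInducing.subtypeVal (t := closure ({x} : Set S))))
            exact hg.topologicalKrullDim_le
          · generalize topologicalKrullDim (closure ({x.1} : Set Y)) = D at h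
            induction D with
            | bot => exact bot_le
            | coe a =>
              have h' : a < ((e + 1 : ℕ) : ℕ∞) := WithBot.coe_lt_coe.1 h
              exact WithBot.coe_le_coe.2 (ENat.lt_coe_add_one_iff.1 (by exact_mod_cast h'))
        haveI : Im.IsQuasicoherent := hImq
        exact @Equiv.subsingleton _ _ (H10Coh.HHEquiv Im (e + 1)).toEquiv
          (H28Int.subsingleton_HnM_of_support ⟨S, hSc⟩ e hS Im hImq subset_rfl (e + 1) (Nat.lt_succ_self e))
    obtain ⟨χ, -, huni⟩ := hu Im hImq 0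
    have h1 : Limits.image.ι φ = 0 :=
      (huni _ fun x => by rw [Subsingleton.elim x 0, map_zero, map_zero, map_zero]).trans
        (huni 0 fun x => by rw [Subsingleton.elim x 0, map_zero, map_zero, map_zero]).symm
    rw [← Limits.image.fac φ, h1, comp_zero]
  haveI : Subsingleton (Coh.HH Y G d) := by
    refine subsingleton_of_forall_eq 0 fun x => (Module.forall_dual_apply_eq_zero_iff k x).1 fun ψ => ?_
    obtain ⟨φ, hφ, -⟩ := hu G hG ψ
    rw [hφ x, hzero φ, Functor.map_zero]
    show t ((Sheaf.functorH _ d).map (0 : _ ⟶ (SheafOfModules.toSheaf Y.ringCatSheaf).obj ω) x) = 0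
    rw [Functor.map_zero]
    exact map_zero t
  exact (H7Flat.CohDim.lerayHH j M d).symm.toEquiv.subsingleton

end Groth.Agent.H3Lich
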