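import Groth.Agent.H4RepDual.Field
import Groth.Agent.H4RepDual.FieldVan
import Groth.Agent.H4DR.Dualizing.Compare
import Groth.Agent.H10Coh.Support
import Groth.Agent.H8Props.FieldDimScheme
import Groth.Agent.H25Euler.Degree

/-!
# The top cohomology of a proper scheme does not vanish
-/

set_option autoImplicit false
set_option linter.style.haveILetI false
set_option linter.unusedSectionVars false
set_option backward.isDefEq.respectTransparency false
set_option synthInstance.maxHeartbeats 400000
set_option maxHeartbeats 1000000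

universe u

open CategoryTheory CategoryTheory.Limits AlgebraicGeometry
open DerivedCategory.TStructure
open Groth.Agent.H4DR.Dualizing (Loc loc)

attribute [local instance] HasDerivedCategory.standard

namespace Groth.Agent.H3Lich

open Groth.Agent.H16Derived Groth.Agent.H4RepDual

/-- A point whose closure has full dimension. -/
theorem exists_cdim_eq {X : Scheme.{u}} [Nonempty X] (d : ℕ) (hd : topologicalKrullDim X = d) :
    ∃ y : X, topologicalKrullDim (closure ({y} : Set X)) = d := by
  by_contra hne
  push Not at hne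
  have hlt : ∀ y : X, topologicalKrullDim (closure ({y} : Set X)) < (d : WithBot ℕ∞) := fun y =>
    lt_of_le_of_ne (hd ▸ Topology.IsInducing.subtypeVal.topologicalKrullDim_le) (hne y)
  rcases Nat.eq_zero_or_pos d with rfl | hpos
  · obtain ⟨y⟩ := (inferInstance : Nonempty X)
    haveI : Nonempty (TopologicalSpace.IrreducibleCloseds (closure ({y} : Set X))) :=
      ⟨⟨closure {⟨y, subset_closure rfl⟩}, isIrreducible_singleton.closure, isClosed_closure⟩⟩
    exact absurd (hlt y) (not_lt.2 Order.krullDim_nonneg)
  · obtain ⟨e, rfl⟩ : ∃ e, d = e + 1 := ⟨d - 1, by omega⟩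
    have h : topologicalKrullDim X ≤ (e : WithBot ℕ∞) := by
      rw [H8Props.FieldDim.dim_eq_iSup_cdim]
      refine iSup_le fun y => ?_
      have h := hlt y
      show topologicalKrullDim (closure ({y} : Set X)) ≤ _
      generalize topologicalKrullDim (closure ({y} : Set X)) = D at h
      induction D with
      | bot => exact bot_le
      | coe a =>
        have h' : a < ((e + 1 : ℕ) : ℕ∞) := WithBot.coe_lt_coe.1 h
        exact WithBot.coe_le_coe.2 (ENat.lt_coe_add_one_iff.1 (by exact_mod_cast h'))
    rw [hd] at h
    norm_cast at h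
    omega

attribute [local instance 10000] H10Coh.hasSheafifyAb H10Coh.hasWeakSheafifyAb H10Coh.hasExtAb H10Coh.enoughInjAb

/-- Some coherent module on a nonempty proper scheme has nonzero top cohomology. -/
theorem exists_nontrivial_top {k : Type u} [Field k] {X : Scheme.{u}} (f : X ⟶ Spec (CommRingCat.of k)) [IsProper f]
    [Nonempty X] (d : ℕ) (hd : topologicalKrullDim X = d) :
    ∃ M : X.Modules, Coh.IsCoh M ∧ Nontrivial (Coh.HH X M d) := by
  haveI := hasExtModules X
  haveI := H16Derived.QCohD.hasRpush f
  haveI : CompactSpace X := QuasiCompact.compactSpace_of_compactSpace f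
  haveI : QuasiSeparatedSpace X := quasiSeparatedSpace_of_quasiSeparated f
  haveI : IsLocallyNoetherian X := LocallyOfFiniteType.isLocallyNoetherian f
  haveI := H16Derived.QCohD.preservesFiniteLimits_tilde_of k
  haveI : ∀ (R : CommRingCat.{u}), PreservesFiniteLimits (tilde.functor R) := fun R =>
    H16Derived.QCohD.preservesFiniteLimits_tilde_of R
  haveI : ∀ (U : Scheme.{u}) (j : U ⟶ X) [IsOpenImmersion j],
      PreservesFiniteLimits (Scheme.Modules.restrictFunctor j) := fun U j _ => inferInstance
  haveI : ∀ (U : Scheme.{u}) (j : U ⟶ Spec (CommRingCat.of k)) [IsOpenImmersion j],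
      PreservesFiniteLimits (Scheme.Modules.restrictFunctor j) := fun U j _ => inferInstance
  have h : ∀ K : DCoh.D X, DCoh.IsQCohD K → DCoh.IsQCohD ((DCoh.Rpush f).obj K) := fun K hK =>
    H16Derived.QCohD.isQCohD_rpush f hK
  haveI := LeadBrown.isLeftAdjoint_rpushQ f h
  let adj := Adjunction.ofIsLeftAdjoint (DCoh.RpushQ f h)
  let S := Spec (CommRingCat.of k)
  let O : DCoh.DQCoh S := ⟨DCoh.inD S (Coh.structureModule S),
    H16Derived.TorTest.isQCohD_inD H10Coh.isQuasicoherent_unit⟩
  let eK : O.obj ≅ (DCoh.tildeD (CommRingCat.of k)).obj (Dual.inD k k) :=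
    ((DerivedCategory.singleFunctor S.Modules 0).mapIso (AlgebraicGeometry.tildeSelf (R := CommRingCat.of k))).symm ≪≫
      (((tilde.functor (CommRingCat.of k)).mapDerivedCategorySingleFunctor 0).app (ModuleCat.of k k)).symm
  let E := ((DCoh.RpushQ f h).rightAdjoint.obj O).obj
  let ω := DCoh.HD E (-(d : ℤ))
  have hbound : ∀ M : X.Modules, Coh.IsQCoh M → ((DCoh.Rpush f).obj (DCoh.inD X M)).IsLE d :=
    H4RepDual.isLE_rpush_inD f d fun y => (f.fiberι y).isEmbedding.isInducing.topologicalKrullDim_le.trans hd.le
  have hO : O.obj.IsGE 0 := isGE_zero_field O eK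
  obtain ⟨t₀, -, hu⟩ := exists_trace_aux f (hf := h) adj d hbound O (Dual.inD k k) inferInstance eK
    (by simpa using H4RepDual.isGE_of_bound f h adj d hbound O 0 hO)
  have hcoh : DCoh.IsCohD E := LeadBrown.isCohD_rightAdjoint f (hf := h) adj O 0 hO (isCohD_field O eK)
  obtain ⟨hrange, hdim⟩ := range_and_supports f (hf := h) adj O eK d hd.le
  have hdual : Dual2.IsDualizingSch X E := isDualizingSch_rightAdjoint f (hf := h) adj O (isDualizingSch_field O eK)
  obtain ⟨y, hy⟩ := exists_cdim_eq (X := X) d hd
  -- the stalk of the lowest cohomology at `y` is nonzero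
  have hω : ¬ Subsingleton (ω.presheaf.stalk y) := by
    intro hsub
    have hall : ∀ i : ℤ, ¬ Nontrivial ((DCoh.HD E i).presheaf.stalk y) := by
      intro i hne
      by_cases hi : i < -(d : ℤ) ∨ 0 < i
      · have hz := hrange i hi
        exact ((H25Euler.notMem_support_iff (DCoh.HD E i) y).2
          (Functor.map_isZero (DerSch.stalkFunctor X y) hz)) (not_subsingleton_iff_nontrivial.2 hne)
      · rcases eq_or_ne i (-(d : ℤ)) with rfl | hid
        · exact not_subsingleton_iff_nontrivial.2 hne hsub
        · have hlt : (-i).toNat < d := by omega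
          have hsupp : closure ({y} : Set X) ⊆ {x : X | Nontrivial ((DCoh.HD E i).presheaf.stalk x)} := by
            have heq : {x : X | Nontrivial ((DCoh.HD E i).presheaf.stalk x)} = CohB1.support (DCoh.HD E i) :=
              Set.ext fun x => not_subsingleton_iff_nontrivial.symm
            rw [heq]
            exact closure_minimal (Set.singleton_subset_iff.2 (not_subsingleton_iff_nontrivial.2 hne))
              (H10Coh.isClosed_support _ (hcoh i).2)
          have h2 := (H8Props.FieldDim.dim_mono hsupp).trans (hdim i (-i).toNat (by omega))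
          rw [hy] at h2
          norm_cast at h2
          omega
    obtain ⟨C, iC, j, ij, q, hq⟩ : ∃ (C : Type u) (_ : CommRing C) (j : Spec (CommRingCat.of C) ⟶ X)
        (_ : IsOpenImmersion j) (q : PrimeSpectrum C), j.base q = y := by
      obtain ⟨q, hq⟩ := X.affineCover.covers y
      exact ⟨_, inferInstance, X.affineCover.f (X.affineCover.idx y),
        inferInstanceAs (IsOpenImmersion (X.affineCover.f (X.affineCover.idx y))), q, hq⟩
    subst hq
    obtain ⟨ω', hω', ⟨e⟩⟩ := hdual C j
    haveI : IsNoetherianRing C := hω'.isNoetherianRing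
    haveI : Module.Flat C (Loc q) := IsLocalization.flat _ q.asIdeal.primeCompl
    have hloc := H4DR.Dualizing.isDualizing_loc hω' q
    have hz : IsZero (loc ω' q) := H4DR.Dualizing.isZero_of_subsingleton_HD fun i => by
      haveI : Subsingleton (LocalizedModule q.asIdeal.primeCompl (Dual.HD C ω' i)) :=
        not_nontrivial_iff_subsingleton.1 fun hn =>
          hall i ((H4DualSch.nontrivial_stalk_HD_iff j E ω' e q i).2 (Module.mem_support_iff.2 hn))
      exact ((LocalizedModule.equivTensorProduct q.asIdeal.primeCompl (Dual.HD C ω' i)).trans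
        ((H4DR.FlatBC.hBC (Loc q) i ω').symm)).symm.toEquiv.subsingleton
    exact one_ne_zero (α := Loc q) (hloc.toEnd_bijective.1 (hz.eq_of_src _ _))
  refine ⟨ω, hcoh _, not_subsingleton_iff_nontrivial.1 fun hH => hω ?_⟩
  haveI := hH
  obtain ⟨χ, -, huni⟩ := hu ω (hcoh _).1 0 (fun r x => by simp)
  have hid : 𝟙 ω = 0 :=
    (huni _ fun x => by rw [Subsingleton.elim x 0, map_zero, map_zero, map_zero]).trans
      (huni 0 fun x => by rw [Subsingleton.elim x 0, map_zero, map_zero, map_zero]).symm
  exact not_not.1 ((H25Euler.notMem_support_iff ω y).2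
    (Functor.map_isZero (DerSch.stalkFunctor X y) ((IsZero.iff_id_eq_zero ω).2 hid)))

end Groth.Agent.H3Lich
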