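import Groth.Agent.H3Lich.Vanish
import Groth.Agent.H3Lich.Nonvanish
import Groth.Agent.H8Props.FieldDimEquidim
import Groth.Agent.H22Alg.VarDim

/-!
# Lichtenbaum's theorem
-/

set_option autoImplicit false
set_option linter.style.haveILetI false
set_option maxHeartbeats 1000000
set_option backward.isDefEq.respectTransparency false

universe u

open CategoryTheory CategoryTheory.Limits AlgebraicGeometry Opposite TopologicalSpace

namespace Groth.Agent.H3Lich

variable {k : Type u} [Field k] {X : Scheme.{u}} (f : X ⟶ Spec (CommRingCat.of k))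

include f in
theorem subsingleton_of_lt [IsSeparated f] [LocallyOfFiniteType f] [QuasiCompact f] (n : ℕ)
    (hn : topologicalKrullDim X = n) (M : X.Modules) (hM : Coh.IsQCoh M) (p : ℕ) (hp : n < p) :
    Subsingleton (Coh.HH X M p) := by
  haveI : IsLocallyNoetherian X := LocallyOfFiniteType.isLocallyNoetherian f
  haveI : CompactSpace X := QuasiCompact.compactSpace_of_compactSpace f
  haveI : IsNoetherian X := {}
  haveI : X.IsSeparated := Scheme.IsSeparated.mk (by
    rw [Subsingleton.elim (terminal.from X) (f ≫ terminal.from _)]; infer_instance)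
  refine @Equiv.subsingleton _ _ (H10Coh.HHEquiv M p).toEquiv
    (H28Int.subsingleton_HnM_of_support ⊤ n ?_ M hM (fun x _ => trivial) p hp)
  exact (Topology.IsInducing.subtypeVal.topologicalKrullDim_le).trans hn.le

theorem not_isProper_of_integral [IsSeparated f] [LocallyOfFiniteType f] [QuasiCompact f] [IsIntegral X]
    (hnp : ¬ IsProper f) (d : ℕ) (hd : topologicalKrullDim X = d) (Z : Scheme.{u}) (i : Z ⟶ X) [IsClosedImmersion i]
    [IrreducibleSpace Z] (hZ : topologicalKrullDim Z = d) : ¬ IsProper (i ≫ f) := by
  intro hpr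
  letI : X.Over (Spec (CommRingCat.of k)) := ⟨f⟩
  have hr : closure ({i.base (genericPoint Z)} : Set X) = Set.range i.base := by
    refine Set.Subset.antisymm (closure_minimal (Set.singleton_subset_iff.2 ⟨_, rfl⟩) i.isClosedEmbedding.isClosed_range) ?_
    rintro _ ⟨z, rfl⟩
    exact ((genericPoint_specializes z).map i.continuous).mem_closure
  have hgen : i.base (genericPoint Z) = genericPoint X := by
    by_contra hne
    have hlt := H8Props.FieldDim.cdim_lt f (genericPoint_specializes (i.base (genericPoint Z))) (Ne.symm hne)
    rw [H22Alg.VarDim.cdim_genericPoint, hd] at hlt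
    refine (ne_of_lt hlt) ?_
    show topologicalKrullDim (closure ({i.base (genericPoint Z)} : Set X)) = _
    rw [hr, H8Props.FieldDim.dim_range i.isEmbedding, hZ]
  haveI : Surjective i := ⟨fun x => by
    have : x ∈ Set.range i.base := by
      rw [← hr, hgen]; exact (genericPoint_specializes x).mem_closure
    exact this⟩
  haveI := hpr
  haveI : UniversallyClosed f := UniversallyClosed.of_comp_surjective i f
  exact hnp {}

include f in
/-- Lichtenbaum, the direction "no proper component of top dimension from vanishing". -/
theorem not_isProper_of_vanishing (d : ℕ)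
    (h : ∀ M : X.Modules, Coh.IsCoh M → Subsingleton (Coh.HH X M d)) (Z : Scheme.{u}) (i : Z ⟶ X)
    [IsClosedImmersion i] [LocallyOfFiniteType f] [Nonempty Z] (hZ : topologicalKrullDim Z = d) :
    ¬ IsProper (i ≫ f) := by
  intro hpr
  haveI := hpr
  haveI : IsLocallyNoetherian X := LocallyOfFiniteType.isLocallyNoetherian f
  obtain ⟨M, hM, hne⟩ := exists_nontrivial_top (i ≫ f) d hZ
  haveI : M.IsQuasicoherent := hM.1
  haveI := h _ (H10Coh.isCoh_push_of_isFinite i M hM)
  haveI : Subsingleton (Coh.HH Z M d) := (H7Flat.CohDim.lerayHH i M d).symm.toEquiv.subsingleton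
  exact not_nontrivial_iff_subsingleton.2 ‹_› hne

end Groth.Agent.H3Lich
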